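/-
Helper14 library (FlatColim): changing the stage of a base changed finitely presented model;
lifting elements of ideals to a stage of a directed system.
-/
import Mathlib
import Groth.Agent.Lib.Helper14.FlatUniv.BCLoc
import Groth.Agent.Lib.Helper14.FlatOpen.Open
import Groth.Agent.S4848

set_option autoImplicit false
universe u
open TensorProduct

attribute [local instance] Algebra.TensorProduct.rightAlgebra

namespace Groth.Agent.Lib.Helper14.FlatColim

open Groth.Agent.Lib.Helper14.FlatUniv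

section Trans
variable {R S₀ : Type u} [CommRing R] [CommRing S₀] [Algebra R S₀]
  (M₀ : Type u) [AddCommGroup M₀] [Module S₀ M₀]
  {D D' : Type u} [CommRing D] [CommRing D'] [Algebra R D] [Algebra R D'] [Algebra D D']
  [IsScalarTower R D D']

/-- flatness of the base change to `D'` of the localization at `a` of the model over `D`
versus flatness of the localization at the image of `a` of the model over `D'`. -/
theorem flat_stage_iff (a : D ⊗[R] S₀) :
    Module.Flat D' (D' ⊗[D] LocalizedModule (Submonoid.powers a) ((D ⊗[R] S₀) ⊗[S₀] M₀)) ↔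
      Module.Flat D' (LocalizedModule
        (Submonoid.powers (Algebra.TensorProduct.map (IsScalarTower.toAlgHom R D D')
          (AlgHom.id R S₀) a)) ((D' ⊗[R] S₀) ⊗[S₀] M₀)) := by
  letI alg : Algebra (D ⊗[R] S₀) (D' ⊗[R] S₀) :=
    (Algebra.TensorProduct.map (IsScalarTower.toAlgHom R D D') (AlgHom.id R S₀)).toRingHom.toAlgebra
  have halg : ∀ x, algebraMap (D ⊗[R] S₀) (D' ⊗[R] S₀) x =
      Algebra.TensorProduct.map (IsScalarTower.toAlgHom R D D') (AlgHom.id R S₀) x := fun _ => rfl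
  haveI : IsScalarTower D (D ⊗[R] S₀) (D' ⊗[R] S₀) := IsScalarTower.of_algebraMap_eq (fun d => by
    rw [halg, Algebra.TensorProduct.algebraMap_apply, Algebra.TensorProduct.algebraMap_apply,
      Algebra.TensorProduct.map_tmul]
    simp)
  haveI : IsScalarTower S₀ (D ⊗[R] S₀) (D' ⊗[R] S₀) := IsScalarTower.of_algebraMap_eq (fun x => by
    rw [halg, Algebra.TensorProduct.right_algebraMap_apply,
      Algebra.TensorProduct.right_algebraMap_apply, Algebra.TensorProduct.map_tmul]
    simp)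
  haveI hpo : Algebra.IsPushout D D' (D ⊗[R] S₀) (D' ⊗[R] S₀) :=
    Algebra.IsPushout.tensorProduct_tensorProduct R S₀ D D' (by
      ext x
      simp [halg])
  rw [flat_tensor_localized_iff (C₀ := D) (D := D') (P₀ := D ⊗[R] S₀) (PD := D' ⊗[R] S₀)]
  let e : (D' ⊗[R] S₀) ⊗[D ⊗[R] S₀] ((D ⊗[R] S₀) ⊗[S₀] M₀) ≃ₗ[D' ⊗[R] S₀]
      (D' ⊗[R] S₀) ⊗[S₀] M₀ :=
    AlgebraTensorModule.cancelBaseChange S₀ (D ⊗[R] S₀) (D' ⊗[R] S₀) (D' ⊗[R] S₀) M₀
  constructor
  · exact fun h => flat_localizedModule_congr e _ h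
  · exact fun h => flat_localizedModule_congr e.symm _ h

end Trans

section IdealLift
variable {ι : Type u} [Preorder ι] [IsDirected ι (· ≤ ·)] [Nonempty ι]
  {B : ι → Type u} [∀ i, CommRing (B i)] {B' : Type u} [CommRing B']
  (τ : ∀ i j, i ≤ j → B i →+* B j) (τ' : ∀ i, B i →+* B')
  (hcompat : ∀ i j (h : i ≤ j) x, τ' j (τ i j h x) = τ' i x)
  (hsurj : ∀ b' : B', ∃ i, ∃ b : B i, τ' i b = b')
  (𝔡 : ∀ i, Ideal (B i)) (h𝔡 : ∀ i j (h : i ≤ j), (𝔡 i).map (τ i j h) ≤ 𝔡 j)

include hcompat hsurj h𝔡 in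
/-- an element of the union of the extensions of a compatible family of ideals comes from an
element of one of the ideals. -/
theorem exists_mem_stage_of_mem_iSup (x' : B') (hx' : x' ∈ ⨆ i, (𝔡 i).map (τ' i)) :
    ∃ i, ∃ x ∈ 𝔡 i, τ' i x = x' := by
  classical
  have hpush : ∀ i j (h : i ≤ j) x, x ∈ 𝔡 i → τ i j h x ∈ 𝔡 j := fun i j h x hx =>
    h𝔡 i j h (Ideal.mem_map_of_mem _ hx)
  let U : Ideal B' :=
    { carrier := {y | ∃ i, ∃ x ∈ 𝔡 i, τ' i x = y}
      zero_mem' := by
        obtain ⟨i⟩ := (inferInstance : Nonempty ι)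
        exact ⟨i, 0, (𝔡 i).zero_mem, map_zero _⟩
      add_mem' := by
        rintro _ _ ⟨i, x, hx, rfl⟩ ⟨j, y, hy, rfl⟩
        obtain ⟨k, hik, hjk⟩ := exists_ge_ge i j
        refine ⟨k, τ i k hik x + τ j k hjk y, (𝔡 k).add_mem (hpush _ _ _ _ hx) (hpush _ _ _ _ hy), ?_⟩
        rw [map_add, hcompat, hcompat]
      smul_mem' := by
        rintro c _ ⟨i, x, hx, rfl⟩
        obtain ⟨j, b, rfl⟩ := hsurj c
        obtain ⟨k, hik, hjk⟩ := exists_ge_ge i j
        refine ⟨k, τ j k hjk b * τ i k hik x, (𝔡 k).mul_mem_left _ (hpush _ _ _ _ hx), ?_⟩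
        rw [map_mul, hcompat, hcompat, smul_eq_mul] }
  have hle : (⨆ i, (𝔡 i).map (τ' i)) ≤ U := by
    refine iSup_le (fun i => ?_)
    rw [Ideal.map_le_iff_le_comap]
    intro x hx
    exact ⟨i, x, hx, rfl⟩
  exact hle hx'

end IdealLift

section Step1
open Groth.Agent.Lib.Helper14.FlatOpen
variable {A S N : Type u} [CommRing A] [CommRing S] [Algebra A S]
  [Algebra.FinitePresentation A S] [AddCommGroup N] [Module S N] [Module A N]
  [IsScalarTower A S N] [Module.FinitePresentation S N]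

/-- if `N` is flat at all primes containing `K` and not meeting `W`, then some element of `W`
is congruent modulo `K` to an element `a` with `N_a` flat. -/
theorem exists_add_mem_flat (K : Ideal S) (W : Submonoid S)
    (H : ∀ (Q : Ideal S) [Q.IsPrime], Disjoint (Q : Set S) (W : Set S) → K ≤ Q →
      Module.Flat A (LocalizedModule Q.primeCompl N)) :
    ∃ w ∈ W, ∃ a k : S, k ∈ K ∧ w = a + k ∧
      Module.Flat A (LocalizedModule (Submonoid.powers a) N) := by
  classical
  let 𝔞 : Ideal S :=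
    { carrier := {g | FlatOnD A N g}
      add_mem' := by
        intro g₁ g₂ h₁ h₂ Q _ hQ
        by_cases h : g₁ ∈ Q
        · exact h₂ Q (fun h' => hQ (Q.add_mem h h'))
        · exact h₁ Q h
      zero_mem' := fun Q _ hQ => (hQ Q.zero_mem).elim
      smul_mem' := by
        intro c g hg Q _ hQ
        exact hg Q (fun h' => hQ (Q.mul_mem_left c h')) }
  by_cases hdisj : Disjoint ((𝔞 ⊔ K : Ideal S) : Set S) (W : Set S)
  · exfalso
    obtain ⟨Q, hQp, hle, hQW⟩ := Ideal.exists_le_prime_disjoint (𝔞 ⊔ K) W hdisj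
    haveI := hQp
    obtain ⟨g, hgQ, hg⟩ := exists_flatOnD Q (H Q hQW (le_trans le_sup_right hle))
    exact hgQ (hle (Ideal.mem_sup_left hg))
  · rw [Set.not_disjoint_iff] at hdisj
    obtain ⟨w, hw1, hw2⟩ := hdisj
    obtain ⟨a, ha, k, hk, hak⟩ := Submodule.mem_sup.1 hw1
    exact ⟨w, hw2, a, k, hk, hak.symm, (flatOnD_iff a).1 ha⟩

end Step1

section Step4
variable {A₀ : Type u} [CommRing A₀]
    {ι : Type u} [Preorder ι] (G : ι → Type u) [∀ i, CommRing (G i)] [∀ i, Algebra A₀ (G i)]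
    (g : ∀ i j, i ≤ j → G i →ₐ[A₀] G j)
    (A : Type u) [CommRing A] [Algebra A₀ A] [∀ i, Algebra (G i) A] [∀ i, IsScalarTower A₀ (G i) A]
    (hcolim : FlatCA.IsDirectedColimitRing G (fun i j h => (g i j h).toRingHom) A)
    {P₀ : Type u} [CommRing P₀] [Algebra A₀ P₀] [Algebra.FinitePresentation A₀ P₀]
    (N₀ : Type u) [AddCommGroup N₀] [Module P₀ N₀] [Module A₀ N₀] [IsScalarTower A₀ P₀ N₀]
    [Module.FinitePresentation P₀ N₀] (b₀ : P₀)

include hcolim in
theorem exists_stage_flat_localized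
    (h : Module.Flat A (A ⊗[A₀] LocalizedModule (Submonoid.powers b₀) N₀)) :
    ∃ i, Module.Flat (G i) (G i ⊗[A₀] LocalizedModule (Submonoid.powers b₀) N₀) := by
  haveI : Algebra.FinitePresentation A₀ (Localization.Away b₀) :=
    Algebra.FinitePresentation.trans A₀ P₀ (Localization.Away b₀)
  exact (Groth.Agent.S4848.result G g A hcolim (B₀ := Localization.Away b₀)
    (LocalizedModule (Submonoid.powers b₀) N₀)).1 h

end Step4

end Groth.Agent.Lib.Helper14.FlatColim
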