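/-
Helper14 library (FlatColim): flatness along `V(I' + J)` away from a multiplicative set descends
to a stage of a directed colimit (finitely presented model form of Stacks 05LY).
-/
import Mathlib
import Groth.Agent.Lib.Helper14.FlatColim.Stage
import Groth.Prelude.Def_FlatCA

set_option autoImplicit false
universe u
open TensorProduct

attribute [local instance] Algebra.TensorProduct.rightAlgebra

namespace Groth.Agent.Lib.Helper14.FlatColim

open Groth.Agent.Lib.Helper14.FlatOpen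

section Sys
variable {R : Type u} [CommRing R] (S₀ : Type u) [CommRing S₀] [Algebra R S₀]
  {ι : Type u} [Preorder ι] (G : ι → Type u) [∀ i, CommRing (G i)] [∀ i, Algebra R (G i)]
  (g : ∀ i j, i ≤ j → G i →+* G j)
  (hgR : ∀ i j (h : i ≤ j), (g i j h).comp (algebraMap R (G i)) = algebraMap R (G j))
  (R' : Type u) [CommRing R'] [Algebra R R'] [∀ i, Algebra (G i) R']
  [∀ i, IsScalarTower R (G i) R']

/-- the transition maps as algebra homomorphisms. -/
def gAlg (i j : ι) (h : i ≤ j) : G i →ₐ[R] G j :=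
  { g i j h with commutes' := fun r => RingHom.congr_fun (hgR i j h) r }

/-- the transition maps of the base changed system. -/
noncomputable def tauS (i j : ι) (h : i ≤ j) : G i ⊗[R] S₀ →ₐ[R] G j ⊗[R] S₀ :=
  Algebra.TensorProduct.map (gAlg G g hgR i j h) (AlgHom.id R S₀)

/-- the maps to the colimit of the base changed system. -/
noncomputable def tauS' (i : ι) : G i ⊗[R] S₀ →ₐ[R] R' ⊗[R] S₀ :=
  Algebra.TensorProduct.map (IsScalarTower.toAlgHom R (G i) R') (AlgHom.id R S₀)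

theorem tauS_tmul (i j : ι) (h : i ≤ j) (x : G i) (s : S₀) :
    tauS S₀ G g hgR i j h (x ⊗ₜ[R] s) = g i j h x ⊗ₜ[R] s := by
  simp [tauS, gAlg]

theorem tauS'_tmul (i : ι) (x : G i) (s : S₀) :
    tauS' S₀ G R' i (x ⊗ₜ[R] s) = algebraMap (G i) R' x ⊗ₜ[R] s := by
  simp [tauS']

theorem tauS_algebraMap_left (i j : ι) (h : i ≤ j) (x : G i) :
    tauS S₀ G g hgR i j h (algebraMap (G i) (G i ⊗[R] S₀) x) =
      algebraMap (G j) (G j ⊗[R] S₀) (g i j h x) := by
  rw [Algebra.TensorProduct.algebraMap_apply, Algebra.TensorProduct.algebraMap_apply,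
    tauS_tmul]
  simp

theorem tauS_algebraMap_right (i j : ι) (h : i ≤ j) (s : S₀) :
    tauS S₀ G g hgR i j h (algebraMap S₀ (G i ⊗[R] S₀) s) = algebraMap S₀ (G j ⊗[R] S₀) s := by
  rw [Algebra.TensorProduct.right_algebraMap_apply, Algebra.TensorProduct.right_algebraMap_apply,
    tauS_tmul, map_one]

theorem tauS'_algebraMap_left (i : ι) (x : G i) :
    tauS' S₀ G R' i (algebraMap (G i) (G i ⊗[R] S₀) x) =
      algebraMap R' (R' ⊗[R] S₀) (algebraMap (G i) R' x) := by
  rw [Algebra.TensorProduct.algebraMap_apply, Algebra.TensorProduct.algebraMap_apply,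
    tauS'_tmul]
  simp

theorem tauS'_algebraMap_right (i : ι) (s : S₀) :
    tauS' S₀ G R' i (algebraMap S₀ (G i ⊗[R] S₀) s) = algebraMap S₀ (R' ⊗[R] S₀) s := by
  rw [Algebra.TensorProduct.right_algebraMap_apply, Algebra.TensorProduct.right_algebraMap_apply,
    tauS'_tmul, map_one]

variable (hcolim : FlatCA.IsDirectedColimitRing G g R')

include hcolim in
theorem tauS'_tauS (i j : ι) (h : i ≤ j) (x : G i ⊗[R] S₀) :
    tauS' S₀ G R' j (tauS S₀ G g hgR i j h x) = tauS' S₀ G R' i x := by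
  obtain ⟨-, -, -, -, hcompat, -, -⟩ := hcolim
  induction x using TensorProduct.induction_on with
  | zero => simp
  | add x y hx hy => rw [map_add, map_add, hx, hy, map_add]
  | tmul x s =>
    rw [tauS_tmul, tauS'_tmul, tauS'_tmul]
    congr 1
    exact RingHom.congr_fun (hcompat i j h) x

include hcolim hgR in
theorem tauS'_surj (b' : R' ⊗[R] S₀) : ∃ i, ∃ b : G i ⊗[R] S₀, tauS' S₀ G R' i b = b' := by
  have hc := hcolim
  obtain ⟨hdir, hne, -, -, hcompat, hsurj, -⟩ := hcolim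
  haveI := hdir
  haveI := hne
  induction b' using TensorProduct.induction_on with
  | zero =>
    obtain ⟨i⟩ := hne
    exact ⟨i, 0, map_zero _⟩
  | add x y hx hy =>
    obtain ⟨i, bx, rfl⟩ := hx
    obtain ⟨j, by', rfl⟩ := hy
    obtain ⟨k, hik, hjk⟩ := exists_ge_ge i j
    refine ⟨k, tauS S₀ G g hgR i k hik bx + tauS S₀ G g hgR j k hjk by', ?_⟩
    rw [map_add, tauS'_tauS S₀ G g hgR R' hc, tauS'_tauS S₀ G g hgR R' hc]
  | tmul r' s =>
    obtain ⟨i, x, rfl⟩ := hsurj r'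
    exact ⟨i, x ⊗ₜ s, tauS'_tmul S₀ G R' i x s⟩

end Sys

section Descent
variable {R S₀ : Type u} [CommRing R] [CommRing S₀] [Algebra R S₀]
  [Algebra.FinitePresentation R S₀]
  (M₀ : Type u) [AddCommGroup M₀] [Module S₀ M₀] [Module.FinitePresentation S₀ M₀]
  {ι : Type u} [Preorder ι] (G : ι → Type u) [∀ i, CommRing (G i)] [∀ i, Algebra R (G i)]
  (g : ∀ i j, i ≤ j → G i →+* G j)
  (hgR : ∀ i j (h : i ≤ j), (g i j h).comp (algebraMap R (G i)) = algebraMap R (G j))
  (R' : Type u) [CommRing R'] [Algebra R R'] [∀ i, Algebra (G i) R']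
  [∀ i, IsScalarTower R (G i) R']
  (hcolim : FlatCA.IsDirectedColimitRing G g R')

include hcolim in
/-- flatness of a localization at an element coming from stage `i` descends to a stage. -/
theorem exists_stage_flat (i : ι) (a : G i ⊗[R] S₀)
    (h : Module.Flat R' (LocalizedModule (Submonoid.powers (tauS' S₀ G R' i a))
      ((R' ⊗[R] S₀) ⊗[S₀] M₀))) :
    ∃ j, ∃ hij : i ≤ j, Module.Flat (G j)
      (LocalizedModule (Submonoid.powers (tauS S₀ G g hgR i j hij a))
        ((G j ⊗[R] S₀) ⊗[S₀] M₀)) := by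
  classical
  obtain ⟨hdir, hne, hid, hcomp, hcompat, hsurj, hinj⟩ := hcolim
  haveI := hdir
  letI algij : ∀ j : {j // i ≤ j}, Algebra (G i) (G j.1) := fun j => (g i j.1 j.2).toAlgebra
  haveI tow1 : ∀ j : {j // i ≤ j}, IsScalarTower R (G i) (G j.1) := fun j =>
    IsScalarTower.of_algebraMap_eq (fun r => (RingHom.congr_fun (hgR i j.1 j.2) r).symm)
  haveI tow2 : ∀ j : {j // i ≤ j}, IsScalarTower (G i) (G j.1) R' := fun j =>
    IsScalarTower.of_algebraMap_eq (fun x => (RingHom.congr_fun (hcompat i j.1 j.2) x).symm)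
  let g' : ∀ j k : {j // i ≤ j}, j ≤ k → G j.1 →ₐ[G i] G k.1 := fun j k hjk =>
    { g j.1 k.1 hjk with
      commutes' := fun x => RingHom.congr_fun (hcomp i j.1 k.1 j.2 hjk) x }
  have hcolim' : FlatCA.IsDirectedColimitRing (fun j : {j // i ≤ j} => G j.1)
      (fun j k hjk => (g' j k hjk).toRingHom) R' := by
    refine ⟨⟨fun j k => ?_⟩, ⟨⟨i, le_rfl⟩⟩, fun j => hid j.1,
      fun j k l hjk hkl => hcomp j.1 k.1 l.1 hjk hkl, fun j k hjk => hcompat j.1 k.1 hjk,
      fun x => ?_, fun j x hx => ?_⟩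
    · obtain ⟨l, hjl, hkl⟩ := exists_ge_ge j.1 k.1
      exact ⟨⟨l, j.2.trans hjl⟩, hjl, hkl⟩
    · obtain ⟨k, y, rfl⟩ := hsurj x
      obtain ⟨l, hil, hkl⟩ := exists_ge_ge i k
      exact ⟨⟨l, hil⟩, g k l hkl y, RingHom.congr_fun (hcompat k l hkl) y⟩
    · obtain ⟨k, hjk, hk⟩ := hinj j.1 x hx
      exact ⟨⟨k, j.2.trans hjk⟩, hjk, hk⟩
  have h1 := (flat_stage_iff M₀ (D := G i) (D' := R') a).2 h
  obtain ⟨j, hj⟩ := exists_stage_flat_localized (A₀ := G i) (fun j : {j // i ≤ j} => G j.1) g' R'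
    hcolim' (P₀ := G i ⊗[R] S₀) ((G i ⊗[R] S₀) ⊗[S₀] M₀) a h1
  have h2 := (flat_stage_iff M₀ (D := G i) (D' := G j.1) a).1 hj
  refine ⟨j.1, j.2, ?_⟩
  have heq : IsScalarTower.toAlgHom R (G i) (G j.1) = gAlg G g hgR i j.1 j.2 :=
    AlgHom.ext (fun _ => rfl)
  rw [heq] at h2
  exact h2

end Descent

end Groth.Agent.Lib.Helper14.FlatColim
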