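/-
Helper14 library (FlatColim): main descent statement for the finitely presented model.
-/
import Mathlib
import Groth.Agent.Lib.Helper14.FlatColim.Core

set_option autoImplicit false
universe u
open TensorProduct

attribute [local instance] Algebra.TensorProduct.rightAlgebra

namespace Groth.Agent.Lib.Helper14.FlatColim

open Groth.Agent.Lib.Helper14.FlatOpen

section Main
variable {R S₀ : Type u} [CommRing R] [CommRing S₀] [Algebra R S₀]
  [Algebra.FinitePresentation R S₀] (T : Submonoid S₀)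
  (M₀ : Type u) [AddCommGroup M₀] [Module S₀ M₀] [Module.FinitePresentation S₀ M₀]
  {ι : Type u} [Preorder ι] (G : ι → Type u) [∀ i, CommRing (G i)] [∀ i, Algebra R (G i)]
  (g : ∀ i j, i ≤ j → G i →+* G j)
  (hgR : ∀ i j (h : i ≤ j), (g i j h).comp (algebraMap R (G i)) = algebraMap R (G j))
  (R' : Type u) [CommRing R'] [Algebra R R'] [∀ i, Algebra (G i) R']
  [∀ i, IsScalarTower R (G i) R']
  (hcolim : FlatCA.IsDirectedColimitRing G g R')
  (Il : ∀ i, Ideal (G i)) (hIl : ∀ i j (h : i ≤ j), (Il i).map (g i j h) ≤ Il j)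
  (J₀ : Ideal S₀)

include hcolim hIl hgR in
theorem core
    (H : ∀ (Q : Ideal (R' ⊗[R] S₀)) [Q.IsPrime],
      (∀ t ∈ T, algebraMap S₀ (R' ⊗[R] S₀) t ∉ Q) →
      (⨆ i, (Il i).map (algebraMap (G i) R')).map (algebraMap R' (R' ⊗[R] S₀)) ⊔
        J₀.map (algebraMap S₀ (R' ⊗[R] S₀)) ≤ Q →
      Module.Flat R' (LocalizedModule Q.primeCompl ((R' ⊗[R] S₀) ⊗[S₀] M₀))) :
    ∃ i, ∀ (Q : Ideal (G i ⊗[R] S₀)) [Q.IsPrime],
      (∀ t ∈ T, algebraMap S₀ (G i ⊗[R] S₀) t ∉ Q) →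
      (Il i).map (algebraMap (G i) (G i ⊗[R] S₀)) ⊔ J₀.map (algebraMap S₀ (G i ⊗[R] S₀)) ≤ Q →
      Module.Flat (G i) (LocalizedModule Q.primeCompl ((G i ⊗[R] S₀) ⊗[S₀] M₀)) := by
  classical
  have hc := hcolim
  obtain ⟨hdir, hne, hid, hcomp, hcompat, hsurj, hinj⟩ := hcolim
  haveI := hdir
  haveI := hne
  -- Step 1
  obtain ⟨w, hw, a, k, hk, hwak, hflat⟩ := exists_add_mem_flat (A := R') (S := R' ⊗[R] S₀)
    (N := (R' ⊗[R] S₀) ⊗[S₀] M₀)
    ((⨆ i, (Il i).map (algebraMap (G i) R')).map (algebraMap R' (R' ⊗[R] S₀)) ⊔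
        J₀.map (algebraMap S₀ (R' ⊗[R] S₀)))
    (T.map (algebraMap S₀ (R' ⊗[R] S₀)))
    (fun Q _ hQW hKQ => H Q (fun t ht hmem => Set.disjoint_left.1 hQW hmem ⟨t, ht, rfl⟩) hKQ)
  obtain ⟨t, ht, rfl⟩ := hw
  -- Step 2: lift `k`
  let 𝔡 : ∀ i, Ideal (G i ⊗[R] S₀) := fun i =>
    (Il i).map (algebraMap (G i) (G i ⊗[R] S₀)) ⊔ J₀.map (algebraMap S₀ (G i ⊗[R] S₀))
  have h𝔡 : ∀ i j (h : i ≤ j), (𝔡 i).map (tauS S₀ G g hgR i j h).toRingHom ≤ 𝔡 j := by
    intro i j h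
    rw [Ideal.map_sup, Ideal.map_map, Ideal.map_map]
    refine sup_le_sup ?_ ?_
    · have e : (tauS S₀ G g hgR i j h).toRingHom.comp (algebraMap (G i) (G i ⊗[R] S₀)) =
          (algebraMap (G j) (G j ⊗[R] S₀)).comp (g i j h) :=
        RingHom.ext (fun x => tauS_algebraMap_left S₀ G g hgR i j h x)
      rw [e, ← Ideal.map_map]
      exact Ideal.map_mono (hIl i j h)
    · have e : (tauS S₀ G g hgR i j h).toRingHom.comp (algebraMap S₀ (G i ⊗[R] S₀)) =
          algebraMap S₀ (G j ⊗[R] S₀) :=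
        RingHom.ext (fun s => tauS_algebraMap_right S₀ G g hgR i j h s)
      rw [e]
  have hK'le : (⨆ i, (Il i).map (algebraMap (G i) R')).map (algebraMap R' (R' ⊗[R] S₀)) ⊔
        J₀.map (algebraMap S₀ (R' ⊗[R] S₀)) ≤ ⨆ i, (𝔡 i).map (tauS' S₀ G R' i).toRingHom := by
    refine sup_le ?_ ?_
    · rw [Ideal.map_iSup]
      refine iSup_le (fun i => le_iSup_of_le i ?_)
      rw [Ideal.map_map]
      have e : (algebraMap R' (R' ⊗[R] S₀)).comp (algebraMap (G i) R') =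
          (tauS' S₀ G R' i).toRingHom.comp (algebraMap (G i) (G i ⊗[R] S₀)) :=
        RingHom.ext (fun x => (tauS'_algebraMap_left S₀ G R' i x).symm)
      rw [e, ← Ideal.map_map]
      exact Ideal.map_mono le_sup_left
    · obtain ⟨i⟩ := hne
      refine le_iSup_of_le i ?_
      have e : algebraMap S₀ (R' ⊗[R] S₀) =
          (tauS' S₀ G R' i).toRingHom.comp (algebraMap S₀ (G i ⊗[R] S₀)) :=
        RingHom.ext (fun s => (tauS'_algebraMap_right S₀ G R' i s).symm)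
      rw [e, ← Ideal.map_map]
      exact Ideal.map_mono le_sup_right
  obtain ⟨i, z, hz, hzk⟩ := exists_mem_stage_of_mem_iSup
    (fun i j h => (tauS S₀ G g hgR i j h).toRingHom) (fun i => (tauS' S₀ G R' i).toRingHom)
    (fun i j h x => tauS'_tauS S₀ G g hgR R' hc i j h x) (tauS'_surj S₀ G g hgR R' hc) 𝔡 h𝔡 k
    (hK'le hk)
  have hzk' : tauS' S₀ G R' i z = k := hzk
  have hai : tauS' S₀ G R' i (algebraMap S₀ (G i ⊗[R] S₀) t - z) = a := by
    rw [map_sub, tauS'_algebraMap_right, hzk', hwak, add_sub_cancel_right]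
  -- Step 4
  rw [← hai] at hflat
  obtain ⟨j, hij, hj⟩ := exists_stage_flat M₀ G g hgR R' hc i _ hflat
  refine ⟨j, fun Q _ hQT hQ => ?_⟩
  -- Step 5
  have haj : tauS S₀ G g hgR i j hij (algebraMap S₀ (G i ⊗[R] S₀) t - z) ∉ Q := by
    intro hmem
    have hz' : tauS S₀ G g hgR i j hij z ∈ 𝔡 j := h𝔡 i j hij (Ideal.mem_map_of_mem _ hz)
    have e : algebraMap S₀ (G j ⊗[R] S₀) t =
        tauS S₀ G g hgR i j hij (algebraMap S₀ (G i ⊗[R] S₀) t - z) +
          tauS S₀ G g hgR i j hij z := by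
      rw [← map_add, sub_add_cancel, tauS_algebraMap_right]
    exact hQT t ht (e ▸ Q.add_mem hmem (hQ hz'))
  exact (flatOnD_iff (tauS S₀ G g hgR i j hij (algebraMap S₀ (G i ⊗[R] S₀) t - z))).2 hj Q haj

end Main

end Groth.Agent.Lib.Helper14.FlatColim
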