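/-
Helper14 library (FlatColim): localizing a localization of a module at a prime; descent of a
finitely presented module from a localization of a ring.
-/
import Mathlib

set_option autoImplicit false
universe u
open TensorProduct

namespace Groth.Agent.Lib.Helper14.FlatColim

section LocLoc
variable {S S' N N' N'' : Type*} [CommRing S] [CommRing S'] [Algebra S S'] (T : Submonoid S)
  [IsLocalization T S']
  [AddCommGroup N] [Module S N] [AddCommGroup N'] [Module S N'] [Module S' N']
  [IsScalarTower S S' N'] [AddCommGroup N''] [Module S N''] [Module S' N'']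
  [IsScalarTower S S' N'']

/-- localizing `T⁻¹N` at a prime `Q'` of `T⁻¹S` is the localization of `N` at the contraction. -/
theorem isLocalizedModule_comp_of_isLocalization (f : N →ₗ[S] N') [IsLocalizedModule T f]
    (Q' : Ideal S') [Q'.IsPrime] (l : N' →ₗ[S'] N'') [IsLocalizedModule Q'.primeCompl l] :
    IsLocalizedModule (Q'.comap (algebraMap S S')).primeCompl
      ((l.restrictScalars S).comp f) := by
  have hgQ : ∀ m : T, algebraMap S S' (m : S) ∉ Q' := fun m h =>
    Ideal.IsPrime.ne_top inferInstance
      (Ideal.eq_top_of_isUnit_mem _ h (IsLocalization.map_units S' m))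
  -- every element of `S'` times an element of `T` comes from `S`
  have hnum : ∀ t' : S', ∃ (t : S) (m : T), t' * algebraMap S S' (m : S) = algebraMap S S' t := by
    intro t'
    obtain ⟨⟨t, m⟩, h⟩ := IsLocalization.surj T t'
    exact ⟨t, m, h⟩
  constructor
  · intro s
    have hs : algebraMap S S' s ∈ Q'.primeCompl := s.2
    have h1 := IsLocalizedModule.map_units l ⟨algebraMap S S' s, hs⟩
    rw [Module.End.isUnit_iff] at h1 ⊢
    convert h1 using 1
    funext y
    simp only [Module.algebraMap_end_apply]
    exact (algebraMap_smul S' (s : S) y).symm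
  · intro y
    obtain ⟨⟨x', t'⟩, h1⟩ := IsLocalizedModule.surj Q'.primeCompl l y
    obtain ⟨⟨x, k⟩, h2⟩ := IsLocalizedModule.surj T f x'
    obtain ⟨t, m, ht⟩ := hnum t'
    have htQ : t * (k : S) ∈ (Q'.comap (algebraMap S S')).primeCompl := by
      intro hmem
      have hmem' : algebraMap S S' (t * (k : S)) ∈ Q' := hmem
      rw [map_mul, ← ht] at hmem'
      rcases Ideal.IsPrime.mem_or_mem inferInstance hmem' with h | h
      · rcases Ideal.IsPrime.mem_or_mem inferInstance h with h | h
        · exact t'.2 h
        · exact hgQ m h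
      · exact hgQ k h
    refine ⟨⟨(m : S) • x, ⟨t * (k : S), htQ⟩⟩, ?_⟩
    have h1' : (t' : S') • y = l x' := h1
    have h2' : (k : S) • x' = f x := h2
    show (t * (k : S)) • y = l (f ((m : S) • x))
    calc (t * (k : S)) • y = (algebraMap S S' (t * (k : S))) • y := (algebraMap_smul S' _ y).symm
      _ = (algebraMap S S' (m : S) * algebraMap S S' (k : S)) • ((t' : S') • y) := by
          rw [map_mul, ← ht, ← mul_smul]; ring_nf
      _ = (algebraMap S S' (m : S) * algebraMap S S' (k : S)) • l x' := by rw [h1']
      _ = l ((algebraMap S S' (m : S) * algebraMap S S' (k : S)) • x') := (map_smul l _ _).symm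
      _ = l ((m : S) • ((k : S) • x')) := by
          rw [mul_smul, algebraMap_smul, algebraMap_smul]
      _ = l (f ((m : S) • x)) := by rw [h2', ← f.map_smul]
  · intro x₁ x₂ h
    simp only [LinearMap.comp_apply, LinearMap.restrictScalars_apply] at h
    obtain ⟨t', h1⟩ := IsLocalizedModule.exists_of_eq (S := Q'.primeCompl) (f := l) h
    obtain ⟨t, m, ht⟩ := hnum t'
    have h2 : f (t • x₁) = f (t • x₂) := by
      rw [map_smul, map_smul, ← algebraMap_smul S' t, ← algebraMap_smul S' t (f x₂), ← ht,
        mul_comm, mul_smul, mul_smul]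
      simp only [Submonoid.smul_def] at h1
      rw [h1]
    obtain ⟨k, h3⟩ := IsLocalizedModule.exists_of_eq (S := T) (f := f) h2
    simp only [Submonoid.smul_def] at h3
    have htQ : (k : S) * t ∈ (Q'.comap (algebraMap S S')).primeCompl := by
      intro hmem
      have hmem' : algebraMap S S' ((k : S) * t) ∈ Q' := hmem
      rw [map_mul] at hmem'
      rcases Ideal.IsPrime.mem_or_mem inferInstance hmem' with h | h
      · exact hgQ k h
      · have : t' * algebraMap S S' (m : S) ∈ Q' := by rw [ht]; exact h
        rcases Ideal.IsPrime.mem_or_mem inferInstance this with h | h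
        · exact t'.2 h
        · exact hgQ m h
    refine ⟨⟨(k : S) * t, htQ⟩, ?_⟩
    simp only [Submonoid.smul_def]
    rw [mul_smul, mul_smul, h3]

end LocLoc

section Descent

/-- a finitely presented module over a localization is the localization of a finitely presented
module. -/
theorem exists_finitePresentation_isLocalizedModule
    {S₀ : Type u} (S : Type u) [CommRing S₀] [CommRing S] [Algebra S₀ S] (T : Submonoid S₀)
    [IsLocalization T S] (M : Type u) [AddCommGroup M] [Module S M] [Module S₀ M]
    [IsScalarTower S₀ S M] [Module.FinitePresentation S M] :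
    ∃ (M₀ : Type u) (_ : AddCommGroup M₀) (_ : Module S₀ M₀) (φ : M₀ →ₗ[S₀] M),
      Module.FinitePresentation S₀ M₀ ∧ IsLocalizedModule T φ := by
  classical
  obtain ⟨n, K, e, hK⟩ := Module.FinitePresentation.exists_fin S M
  let F : (Fin n → S₀) →ₗ[S₀] (Fin n → S) :=
    LinearMap.pi fun i => (Algebra.linearMap S₀ S) ∘ₗ LinearMap.proj i
  haveI : IsLocalizedModule T (Algebra.linearMap S₀ S) :=
    (isLocalizedModule_iff_isLocalization).2 inferInstance
  haveI hF : IsLocalizedModule T F := IsLocalizedModule.pi T (fun _ : Fin n => Algebra.linearMap S₀ S)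
  obtain ⟨s, hs⟩ := hK
  -- clear denominators
  have hcl : ∀ v : Fin n → S, ∃ (w : Fin n → S₀) (t : T), (t : S₀) • v = F w := by
    intro v
    obtain ⟨⟨w, t⟩, h⟩ := IsLocalizedModule.surj T F v
    exact ⟨w, t, h⟩
  choose w t hwt using hcl
  let K₀ : Submodule S₀ (Fin n → S₀) := Submodule.span S₀ ((s.image w : Finset (Fin n → S₀)) : Set _)
  have hK₀ : K₀.localized' S T F = K := by
    rw [Submodule.localized'_span, ← hs]
    apply le_antisymm
    · rw [Submodule.span_le]
      rintro _ ⟨x, hx, rfl⟩
      rw [Finset.coe_image] at hx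
      obtain ⟨v, hv, rfl⟩ := hx
      rw [← hwt v]
      rw [← algebraMap_smul S (t v : S₀) v]
      exact Submodule.smul_mem _ _ (Submodule.subset_span hv)
    · rw [Submodule.span_le]
      intro v hv
      have hu : IsUnit (algebraMap S₀ S (t v : S₀)) := IsLocalization.map_units S (t v)
      obtain ⟨u, hu'⟩ := hu
      have h1 : v = (↑u⁻¹ : S) • F (w v) := by
        rw [← hwt v, ← algebraMap_smul S (t v : S₀) v, ← hu', ← mul_smul, Units.inv_mul, one_smul]
      rw [h1]
      refine Submodule.smul_mem _ _ (Submodule.subset_span ⟨w v, ?_, rfl⟩)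
      rw [Finset.coe_image]
      exact ⟨v, hv, rfl⟩
  let q1 : ((Fin n → S₀) ⧸ K₀) →ₗ[S₀] ((Fin n → S) ⧸ K₀.localized' S T F) :=
    K₀.toLocalizedQuotient' S T F
  haveI : IsLocalizedModule T q1 := IsLocalizedModule.toLocalizedQuotient' S T F K₀
  let e2 : ((Fin n → S) ⧸ K₀.localized' S T F) ≃ₗ[S] M :=
    (Submodule.quotEquivOfEq _ _ hK₀) ≪≫ₗ e.symm
  refine ⟨(Fin n → S₀) ⧸ K₀, inferInstance, inferInstance,
    (e2.restrictScalars S₀).toLinearMap ∘ₗ q1, ?_, ?_⟩
  · exact Module.finitePresentation_of_surjective K₀.mkQ K₀.mkQ_surjective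
      (by rw [Submodule.ker_mkQ]; exact Submodule.fg_span (Finset.finite_toSet _))
  · exact IsLocalizedModule.of_linearEquiv T q1 (e2.restrictScalars S₀)

end Descent

end Groth.Agent.Lib.Helper14.FlatColim
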