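/-
Helper14 library (FlatColim): comparing the localizations of a base changed module over an
essentially finitely presented algebra with those of a finitely presented model.
-/
import Mathlib
import Groth.Agent.Lib.Helper14.FlatColim.LocComp
import Groth.Agent.Lib.Helper14.FlatOpen.Loc

set_option autoImplicit false
universe u
open TensorProduct

attribute [local instance] Algebra.TensorProduct.rightAlgebra

namespace Groth.Agent.Lib.Helper14.FlatColim

open Groth.Agent.Lib.Helper14.FlatOpen

section ToModel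
variable (R S₀ S D SD : Type u) [CommRing R] [CommRing S₀] [CommRing S] [Algebra R S₀]
  [Algebra S₀ S] [Algebra R S] [IsScalarTower R S₀ S]
  [CommRing D] [Algebra R D] [CommRing SD] [Algebra S SD] [Algebra D SD] [Algebra R SD]
  [IsScalarTower R S SD] [IsScalarTower R D SD]

/-- the canonical map from `D ⊗[R] S₀` to a model `SD` of `D ⊗[R] S`. -/
noncomputable def toModel : D ⊗[R] S₀ →ₐ[D] SD :=
  Algebra.TensorProduct.lift (Algebra.ofId D SD)
    ((IsScalarTower.toAlgHom R S SD).comp (IsScalarTower.toAlgHom R S₀ S))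
    (fun _ _ => Commute.all _ _)

theorem toModel_tmul (d : D) (x : S₀) :
    toModel R S₀ S D SD (d ⊗ₜ x) = algebraMap D SD d * algebraMap S SD (algebraMap S₀ S x) := by
  simp [toModel, Algebra.ofId_apply]

theorem toModel_algebraMap_right (x : S₀) :
    toModel R S₀ S D SD (algebraMap S₀ (D ⊗[R] S₀) x) = algebraMap S SD (algebraMap S₀ S x) := by
  rw [Algebra.TensorProduct.right_algebraMap_apply, toModel_tmul, map_one, one_mul]

theorem toModel_algebraMap_left (d : D) :
    toModel R S₀ S D SD (algebraMap D (D ⊗[R] S₀) d) = algebraMap D SD d :=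
  (toModel R S₀ S D SD).commutes d

theorem map_toModel_sup (I : Ideal D) (J₀ : Ideal S₀) :
    (I.map (algebraMap D (D ⊗[R] S₀)) ⊔ J₀.map (algebraMap S₀ (D ⊗[R] S₀))).map
        (toModel R S₀ S D SD).toRingHom =
      I.map (algebraMap D SD) ⊔ (J₀.map (algebraMap S₀ S)).map (algebraMap S SD) := by
  rw [Ideal.map_sup, Ideal.map_map, Ideal.map_map, Ideal.map_map]
  congr 2
  · ext d
    exact toModel_algebraMap_left R S₀ S D SD d
  · ext x
    exact toModel_algebraMap_right R S₀ S D SD x

end ToModel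

section Core
variable {S₀ S : Type u} [CommRing S₀] [CommRing S] [Algebra S₀ S]
  (T : Submonoid S₀) [IsLocalization T S]
  {M₀ M : Type u} [AddCommGroup M₀] [Module S₀ M₀] [AddCommGroup M] [Module S M] [Module S₀ M]
  [IsScalarTower S₀ S M]
  {D B SD MD : Type u} [CommRing D] [CommRing B] [Algebra S₀ B] [Algebra D B]
  [CommRing SD] [Algebra S SD] [Algebra D SD] [Algebra B SD] [Algebra S₀ SD]
  [IsScalarTower S₀ S SD] [IsScalarTower S₀ B SD] [IsScalarTower D B SD]
  [AddCommGroup MD] [Module SD MD] [Module D MD] [IsScalarTower D SD MD] [Module S MD]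
  [IsScalarTower S SD MD] [Module B MD] [IsScalarTower B SD MD] [Module S₀ MD]
  [IsScalarTower S₀ S MD] [IsScalarTower S₀ B MD] [IsScalarTower D B MD] [IsScalarTower S₀ SD MD]
  {N : Type u} [AddCommGroup N] [Module B N] [Module D N] [IsScalarTower D B N] [Module S₀ N]
  [IsScalarTower S₀ B N] (ν : M₀ →ₗ[S₀] N) (hν : IsBaseChange B ν)
  (fD : M →ₗ[S] MD) (hfD : IsBaseChange SD fD)

include hfD hν in
theorem transfer_core (hpo : Algebra.IsPushout S₀ S B SD) (φ₀ : M₀ →ₗ[S₀] M)
    [IsLocalizedModule T φ₀] :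
    (∀ (q : Ideal SD) [q.IsPrime],
      (∀ t ∈ T, algebraMap S₀ B t ∉ q.comap (algebraMap B SD)) ∧
      (Module.Flat D (LocalizedModule q.primeCompl MD) ↔
        Module.Flat D (LocalizedModule (q.comap (algebraMap B SD)).primeCompl N))) ∧
    (∀ (Q : Ideal B) [Q.IsPrime], (∀ t ∈ T, algebraMap S₀ B t ∉ Q) →
      ∃ (q : Ideal SD), q.IsPrime ∧ q.comap (algebraMap B SD) = Q) := by
  classical
  haveI hloc : IsLocalization (Algebra.algebraMapSubmonoid B T) SD :=
    (Algebra.isLocalization_iff_isPushout T S).2 hpo.symm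
  -- the comparison map
  have hφ₀ : IsBaseChange S φ₀ := IsLocalizedModule.isBaseChange T S φ₀
  let h₀ : M₀ →ₗ[S₀] MD := (fD.restrictScalars S₀) ∘ₗ φ₀
  have hh₀ : IsBaseChange SD h₀ := IsBaseChange.comp hφ₀ hfD
  let ψ : N →ₗ[B] MD := hν.lift h₀
  have hψ : IsBaseChange SD ψ := by
    refine IsBaseChange.of_comp hν ?_
    rw [hν.lift_comp]
    exact hh₀
  haveI hψloc : IsLocalizedModule (Algebra.algebraMapSubmonoid B T) ψ :=
    (isLocalizedModule_iff_isBaseChange (Algebra.algebraMapSubmonoid B T) SD ψ).2 hψ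
  refine ⟨fun q _ => ⟨?_, ?_⟩, fun Q _ hQ => ?_⟩
  · intro t ht hmem
    have hu : IsUnit (algebraMap B SD (algebraMap S₀ B t)) :=
      IsLocalization.map_units SD
        (⟨algebraMap S₀ B t, ⟨t, ht, rfl⟩⟩ : Algebra.algebraMapSubmonoid B T)
    exact Ideal.IsPrime.ne_top inferInstance
      (Ideal.eq_top_of_isUnit_mem _ (Ideal.mem_comap.1 hmem) hu)
  · haveI := isLocalizedModule_comp_of_isLocalization (Algebra.algebraMapSubmonoid B T)
      ψ q (LocalizedModule.mkLinearMap q.primeCompl MD)
    constructor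
    · intro h
      exact flat_of_isLocalizedModule_of_isLocalizedModule (A := D) (S := B)
        (q.comap (algebraMap B SD)).primeCompl
        (q.comap (algebraMap B SD)).primeCompl le_rfl
        (((LocalizedModule.mkLinearMap q.primeCompl MD).restrictScalars B).comp ψ)
        (LocalizedModule.mkLinearMap (q.comap (algebraMap B SD)).primeCompl N) h
    · intro h
      exact flat_of_isLocalizedModule_of_isLocalizedModule (A := D) (S := B)
        (q.comap (algebraMap B SD)).primeCompl
        (q.comap (algebraMap B SD)).primeCompl le_rfl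
        (LocalizedModule.mkLinearMap (q.comap (algebraMap B SD)).primeCompl N)
        (((LocalizedModule.mkLinearMap q.primeCompl MD).restrictScalars B).comp ψ) h
  · have hdisj : Disjoint ((Algebra.algebraMapSubmonoid B T : Submonoid _) : Set _)
        (Q : Set B) := by
      rw [Set.disjoint_left]
      rintro _ ⟨t, ht, rfl⟩ hmem
      exact hQ t ht hmem
    exact ⟨Q.map (algebraMap B SD),
      IsLocalization.isPrime_of_isPrime_disjoint _ SD Q inferInstance hdisj,
      IsLocalization.comap_map_of_isPrime_disjoint _ SD inferInstance hdisj⟩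

end Core

section Transfer
variable {R S₀ S : Type u} [CommRing R] [CommRing S₀] [CommRing S] [Algebra R S₀] [Algebra S₀ S]
  [Algebra R S] [IsScalarTower R S₀ S] (T : Submonoid S₀) [IsLocalization T S]
  {M₀ M : Type u} [AddCommGroup M₀] [Module S₀ M₀] [AddCommGroup M] [Module S M] [Module S₀ M]
  [IsScalarTower S₀ S M]
  {D SD MD : Type u} [CommRing D] [Algebra R D] [CommRing SD] [Algebra S SD] [Algebra D SD]
  [Algebra R SD] [IsScalarTower R S SD] [IsScalarTower R D SD] [Algebra.IsPushout R S D SD]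
  [AddCommGroup MD] [Module SD MD] [Module D MD] [IsScalarTower D SD MD] [Module S MD]
  [IsScalarTower S SD MD] (fD : M →ₗ[S] MD) (hfD : IsBaseChange SD fD)

include hfD in
/-- the key comparison: flatness of the localization of the model at a prime `q` of `SD` is
equivalent to flatness of the localization of `(D ⊗ S₀) ⊗ M₀` at the contraction of `q`; moreover
every prime of `D ⊗ S₀` not meeting `T` is such a contraction. -/
theorem transfer_aux (φ₀ : M₀ →ₗ[S₀] M) [IsLocalizedModule T φ₀] :
    (∀ (q : Ideal SD) [q.IsPrime],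
      (∀ t ∈ T, algebraMap S₀ (D ⊗[R] S₀) t ∉ q.comap (toModel R S₀ S D SD).toRingHom) ∧
      (Module.Flat D (LocalizedModule q.primeCompl MD) ↔
        Module.Flat D (LocalizedModule (q.comap (toModel R S₀ S D SD).toRingHom).primeCompl
          ((D ⊗[R] S₀) ⊗[S₀] M₀)))) ∧
    (∀ (Q : Ideal (D ⊗[R] S₀)) [Q.IsPrime], (∀ t ∈ T, algebraMap S₀ (D ⊗[R] S₀) t ∉ Q) →
      ∃ (q : Ideal SD), q.IsPrime ∧ q.comap (toModel R S₀ S D SD).toRingHom = Q) := by
  classical
  letI algBSD : Algebra (D ⊗[R] S₀) SD := (toModel R S₀ S D SD).toRingHom.toAlgebra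
  letI algS₀SD : Algebra S₀ SD := ((algebraMap S SD).comp (algebraMap S₀ S)).toAlgebra
  haveI : IsScalarTower S₀ S SD := IsScalarTower.of_algebraMap_eq (fun _ => rfl)
  haveI : IsScalarTower S₀ (D ⊗[R] S₀) SD := IsScalarTower.of_algebraMap_eq (fun x =>
    (toModel_algebraMap_right R S₀ S D SD x).symm)
  haveI : IsScalarTower D (D ⊗[R] S₀) SD := IsScalarTower.of_algebraMap_eq (fun d =>
    (toModel_algebraMap_left R S₀ S D SD d).symm)
  haveI : IsScalarTower R (D ⊗[R] S₀) SD := IsScalarTower.of_algebraMap_eq (fun r => by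
    rw [IsScalarTower.algebraMap_apply R D (D ⊗[R] S₀), ← IsScalarTower.algebraMap_apply D,
      ← IsScalarTower.algebraMap_apply R D SD])
  have hpo : Algebra.IsPushout S₀ S (D ⊗[R] S₀) SD :=
    (Algebra.IsPushout.comp_iff R S₀ D (S' := D ⊗[R] S₀) (T := S) (T' := SD)).1 inferInstance
  -- module structures
  letI : Module (D ⊗[R] S₀) MD := Module.compHom MD (algebraMap (D ⊗[R] S₀) SD)
  haveI : IsScalarTower (D ⊗[R] S₀) SD MD := IsScalarTower.of_algebraMap_smul (fun _ _ => rfl)
  letI : Module S₀ MD := Module.compHom MD (algebraMap S₀ S)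
  haveI : IsScalarTower S₀ S MD := IsScalarTower.of_algebraMap_smul (fun _ _ => rfl)
  haveI : IsScalarTower S₀ SD MD := IsScalarTower.of_algebraMap_smul (fun x m => by
    show algebraMap S SD (algebraMap S₀ S x) • m = algebraMap S₀ S x • m
    rw [algebraMap_smul])
  haveI : IsScalarTower S₀ (D ⊗[R] S₀) MD := IsScalarTower.of_algebraMap_smul (fun x m => by
    show algebraMap (D ⊗[R] S₀) SD (algebraMap S₀ (D ⊗[R] S₀) x) • m = x • m
    rw [← IsScalarTower.algebraMap_apply S₀ (D ⊗[R] S₀) SD, algebraMap_smul])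
  haveI : IsScalarTower D (D ⊗[R] S₀) MD := IsScalarTower.of_algebraMap_smul (fun d m => by
    show algebraMap (D ⊗[R] S₀) SD (algebraMap D (D ⊗[R] S₀) d) • m = d • m
    rw [← IsScalarTower.algebraMap_apply D (D ⊗[R] S₀) SD, algebraMap_smul])
  exact transfer_core (S₀ := S₀) (S := S) T (D := D) (B := D ⊗[R] S₀) (SD := SD) (MD := MD)
    (N := (D ⊗[R] S₀) ⊗[S₀] M₀) (TensorProduct.mk S₀ (D ⊗[R] S₀) M₀ 1)
    (TensorProduct.isBaseChange S₀ M₀ (D ⊗[R] S₀)) fD hfD hpo φ₀

end Transfer

end Groth.Agent.Lib.Helper14.FlatColim
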