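/-
Helper14 library (FlatColim): Stacks 05LY for essentially finitely presented algebras and
arbitrary models of the base changes.
-/
import Mathlib
import Groth.Agent.Lib.Helper14.FlatColim.Main
import Groth.Agent.Lib.Helper14.FlatColim.Transfer

set_option autoImplicit false
universe u
open TensorProduct

attribute [local instance] Algebra.TensorProduct.rightAlgebra

namespace Groth.Agent.Lib.Helper14.FlatColim

theorem main {R S : Type u} [CommRing R] [CommRing S] [Algebra R S]
    (hS : FlatCA.EssFinitePresentation R S)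
    {M : Type u} [AddCommGroup M] [Module S M] [Module R M] [IsScalarTower R S M]
    [Module.FinitePresentation S M]
    {ι : Type u} [Preorder ι] (G : ι → Type u) [∀ i, CommRing (G i)] [∀ i, Algebra R (G i)]
    (g : ∀ i j, i ≤ j → G i →+* G j)
    (hgR : ∀ i j (h : i ≤ j), (g i j h).comp (algebraMap R (G i)) = algebraMap R (G j))
    (R' : Type u) [CommRing R'] [Algebra R R'] [∀ i, Algebra (G i) R']
    [∀ i, IsScalarTower R (G i) R']
    (hcolim : FlatCA.IsDirectedColimitRing G g R')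
    (Il : ∀ i, Ideal (G i)) (hIl : ∀ i j (h : i ≤ j), (Il i).map (g i j h) ≤ Il j)
    {S' : Type u} [CommRing S'] [Algebra S S'] [Algebra R' S'] [Algebra R S'] [IsScalarTower R S S']
    [IsScalarTower R R' S'] [Algebra.IsPushout R S R' S']
    {M' : Type u} [AddCommGroup M'] [Module S' M'] [Module R' M'] [IsScalarTower R' S' M']
    [Module S M'] [IsScalarTower S S' M'] (f : M →ₗ[S] M') (hf : IsBaseChange S' f)
    (J : Ideal S)
    (h : ∀ (q' : Ideal S') [q'.IsPrime],
      (⨆ i, (Il i).map (algebraMap (G i) R')).map (algebraMap R' S') ⊔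
        J.map (algebraMap S S') ≤ q' →
        FlatCA.FlatAt R' q' M') :
    ∃ i : ι, ∀ (Si Mi : Type u) [CommRing Si] [Algebra S Si] [Algebra (G i) Si] [Algebra R Si]
      [IsScalarTower R S Si] [IsScalarTower R (G i) Si] [Algebra.IsPushout R S (G i) Si]
      [AddCommGroup Mi] [Module Si Mi] [Module (G i) Mi] [IsScalarTower (G i) Si Mi] [Module S Mi]
      [IsScalarTower S Si Mi] (fi : M →ₗ[S] Mi), IsBaseChange Si fi →
      ∀ (q : Ideal Si) [q.IsPrime],
        (Il i).map (algebraMap (G i) Si) ⊔ J.map (algebraMap S Si) ≤ q →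
          FlatCA.FlatAt (G i) q Mi := by
  classical
  obtain ⟨S₀, _, _, _, _, T, hfp, hloc⟩ := hS
  haveI := hfp
  haveI := hloc
  letI : Module S₀ M := Module.compHom M (algebraMap S₀ S)
  haveI : IsScalarTower S₀ S M := IsScalarTower.of_algebraMap_smul (fun _ _ => rfl)
  obtain ⟨M₀, _, _, φ₀, hM₀fp, hφ₀⟩ := exists_finitePresentation_isLocalizedModule S T M
  haveI := hM₀fp
  haveI := hφ₀
  have hJ : (J.comap (algebraMap S₀ S)).map (algebraMap S₀ S) = J := IsLocalization.map_comap T S J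
  -- transfer at the colimit
  obtain ⟨hT1, hT2⟩ := transfer_aux (R := R) T (D := R') (SD := S') (MD := M') f hf φ₀
  have H' : ∀ (Q : Ideal (R' ⊗[R] S₀)) [Q.IsPrime],
      (∀ t ∈ T, algebraMap S₀ (R' ⊗[R] S₀) t ∉ Q) →
      (⨆ i, (Il i).map (algebraMap (G i) R')).map (algebraMap R' (R' ⊗[R] S₀)) ⊔
        (J.comap (algebraMap S₀ S)).map (algebraMap S₀ (R' ⊗[R] S₀)) ≤ Q →
      Module.Flat R' (LocalizedModule Q.primeCompl ((R' ⊗[R] S₀) ⊗[S₀] M₀)) := by
    intro Q _ hQT hQ
    obtain ⟨q, hqp, hqQ⟩ := hT2 Q hQT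
    haveI := hqp
    subst hqQ
    refine ((hT1 q).2).1 (h q ?_)
    rw [← hJ, ← map_toModel_sup R S₀ S R' S', Ideal.map_le_iff_le_comap]
    exact hQ
  obtain ⟨i, hi⟩ := core T M₀ G g hgR R' hcolim Il hIl (J.comap (algebraMap S₀ S)) H'
  refine ⟨i, ?_⟩
  intro Si Mi _ _ _ _ _ _ _ _ _ _ _ _ _ fi hfi q _ hq
  obtain ⟨hT1', -⟩ := transfer_aux (R := R) T (D := G i) (SD := Si) (MD := Mi) fi hfi φ₀
  refine ((hT1' q).2).2 (hi _ (hT1' q).1 ?_)
  rw [← Ideal.map_le_iff_le_comap, map_toModel_sup, hJ]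
  exact hq

end Groth.Agent.Lib.Helper14.FlatColim
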